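import Groth.Prelude.Def_BlowUp2
import Groth.Prelude.Def_CAlgX
import Groth.Agent.FBlow13.Chart
import Mathlib

/-!
The exceptional part of the chart of a blow-up in a quasi-regular sequence is a polynomial algebra.
-/

set_option autoImplicit false
universe u

open MvPolynomial

namespace Groth.Agent.CAlg9.BlowReg

variable {A : Type u} [CommRing A] {r : ℕ} (f : Fin r → A) (i : Fin r)

local notation "I" => Ideal.span (Set.range f)
local notation "Jx" => {j : Fin r // j ≠ i}

/-- the coordinates `f_j / f_i` -/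
noncomputable def coord (j : Jx) : BlowUp.affineAlgebra A I (f i) :=
  ⟨IsLocalization.mk' (Localization.Away (f i)) (f j) ⟨f i, Submonoid.mem_powers _⟩,
    Algebra.subset_adjoin ⟨f j, Ideal.subset_span ⟨j, rfl⟩, rfl⟩⟩

/-- exponents of the homogenization -/
noncomputable def homExp (N : ℕ) (d : Jx →₀ ℕ) : Fin r →₀ ℕ :=
  d.mapDomain Subtype.val + Finsupp.single i (N - ∑ j, d j)

theorem homExp_apply_ne (N : ℕ) (d : Jx →₀ ℕ) (j : Jx) : homExp i N d j = d j := by
  rw [homExp, Finsupp.add_apply, Finsupp.mapDomain_apply Subtype.val_injective,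
    Finsupp.single_apply, if_neg (Ne.symm j.2), add_zero]

theorem homExp_injective (N : ℕ) : Function.Injective (homExp i N) := fun d d' h =>
  Finsupp.ext fun j => by rw [← homExp_apply_ne i N d j, h, homExp_apply_ne]

theorem homExp_degree {N : ℕ} (d : Jx →₀ ℕ) (hd : ∑ j, d j ≤ N) : (homExp i N d).degree = N := by
  have h1 : (d.mapDomain Subtype.val).degree = ∑ j, d j := by
    rw [← Finsupp.degree_eq_sum d]
    exact Finsupp.degree_mapDomain _ _
  rw [homExp, map_add, h1, Finsupp.degree_single]
  omega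

/-- homogenization in degree `N` -/
noncomputable def homog (N : ℕ) (P : MvPolynomial Jx A) : MvPolynomial (Fin r) A :=
  ∑ d ∈ P.support, monomial (homExp i N d) (P.coeff d)

theorem isHomogeneous_homog {N : ℕ} (P : MvPolynomial Jx A) (hN : ∀ d ∈ P.support, ∑ j, d j ≤ N) :
    (homog i N P).IsHomogeneous N :=
  IsHomogeneous.sum _ _ _ fun d hd => isHomogeneous_monomial _ (homExp_degree i d (hN d hd))

theorem coeff_homog {N : ℕ} (P : MvPolynomial Jx A) (d : Jx →₀ ℕ) :
    (homog i N P).coeff (homExp i N d) = P.coeff d := by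
  classical
  rw [homog, coeff_sum]
  simp only [coeff_monomial, (homExp_injective i N).eq_iff]
  rw [Finset.sum_ite_eq']
  split_ifs with h
  · rfl
  · exact (notMem_support_iff.1 h).symm

theorem algebraMap_eval_homog {N : ℕ} (P : MvPolynomial Jx A) (hN : ∀ d ∈ P.support, ∑ j, d j ≤ N) :
    algebraMap A (Localization.Away (f i)) (eval f (homog i N P)) =
      algebraMap A (Localization.Away (f i)) (f i) ^ N *
        ((aeval (coord f i) P : BlowUp.affineAlgebra A I (f i)) : Localization.Away (f i)) := by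
  rw [homog, map_sum, map_sum]
  conv_rhs => rw [P.as_sum, map_sum, AddSubmonoidClass.coe_finsetSum, Finset.mul_sum]
  refine Finset.sum_congr rfl fun d hd => ?_
  rw [eval_monomial, aeval_monomial, map_mul, Subalgebra.coe_mul, Subalgebra.coe_algebraMap]
  rw [Finsupp.prod_fintype _ _ (fun _ => pow_zero _), Finsupp.prod_fintype _ _ (fun _ => pow_zero _), map_prod,
    SubmonoidClass.coe_finsetProd]
  rw [Fintype.prod_eq_mul_prod_compl i]
  have hi : homExp i N d i = N - ∑ j, d j := by
    rw [homExp, Finsupp.add_apply, Finsupp.single_eq_same, Finsupp.mapDomain_notin_range]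
    · rw [zero_add]
    · rintro ⟨j, hj⟩
      exact j.2 hj
  rw [hi, map_pow, show ({i}ᶜ : Finset (Fin r)) = Finset.univ.erase i from Finset.compl_singleton ..,
    Finset.prod_subtype (Finset.univ.erase i) (p := fun j => j ≠ i) (by simp)]
  have h1 : ∀ j : Jx, algebraMap A (Localization.Away (f i)) (f j ^ homExp i N d j) =
      algebraMap A (Localization.Away (f i)) (f i) ^ d j * (coord f i j : Localization.Away (f i)) ^ d j := by
    intro j
    rw [homExp_apply_ne, map_pow, ← mul_pow]
    congr 1
    exact (IsLocalization.mk'_spec' (Localization.Away (f i)) (f j) ⟨f i, Submonoid.mem_powers _⟩).symm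
  simp only [h1, SubmonoidClass.coe_pow, Finset.prod_mul_distrib, Finset.prod_pow_eq_pow_sum]
  calc _ = algebraMap A (Localization.Away (f i)) (P.coeff d) *
        (algebraMap A (Localization.Away (f i)) (f i) ^ ((N - ∑ j, d j) + ∑ j, d j) *
          ∏ j : Jx, (coord f i j : Localization.Away (f i)) ^ d j) := by rw [pow_add]; ring
    _ = _ := by rw [Nat.sub_add_cancel (hN d hd)]; ring

theorem aeval_coord_surjective : Function.Surjective (aeval (R := A) (coord f i)) := by
  rintro ⟨y, hy⟩
  suffices ∃ P : MvPolynomial Jx A, ((aeval (coord f i) P : BlowUp.affineAlgebra A I (f i)) : Localization.Away (f i)) = y by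
    obtain ⟨P, hP⟩ := this
    exact ⟨P, Subtype.ext hP⟩
  refine Algebra.adjoin_induction (p := fun y _ => ∃ P : MvPolynomial Jx A,
    ((aeval (coord f i) P : BlowUp.affineAlgebra A I (f i)) : Localization.Away (f i)) = y) ?_ ?_ ?_ ?_ hy
  · rintro _ ⟨x, hx, rfl⟩
    obtain ⟨c, rfl⟩ := (Submodule.mem_span_range_iff_exists_fun A).1 hx
    refine ⟨C (c i) + ∑ j : Jx, C (c j) * X j, ?_⟩
    rw [map_add, map_sum, AddMemClass.coe_add, AddSubmonoidClass.coe_finsetSum, eq_comm,
      IsLocalization.mk'_eq_iff_eq_mul, add_mul, Finset.sum_mul, map_sum, Fintype.sum_eq_add_sum_compl i,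
      show ({i}ᶜ : Finset (Fin r)) = Finset.univ.erase i from Finset.compl_singleton ..,
      Finset.sum_subtype (Finset.univ.erase i) (p := fun j => j ≠ i) (by simp)]
    simp only [aeval_C, map_mul, aeval_X, Subalgebra.coe_mul, Subalgebra.coe_algebraMap, smul_eq_mul, coord]
    congr 1
    refine Finset.sum_congr rfl fun j _ => ?_
    rw [mul_assoc, IsLocalization.mk'_spec]
  · intro a; exact ⟨C a, by simp⟩
  · rintro x y _ _ ⟨P, hP⟩ ⟨Q, hQ⟩
    exact ⟨P + Q, by rw [map_add, AddMemClass.coe_add, hP, hQ]⟩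
  · rintro x y _ _ ⟨P, hP⟩ ⟨Q, hQ⟩
    exact ⟨P * Q, by rw [map_mul, Subalgebra.coe_mul, hP, hQ]⟩

theorem coeff_mem_of_dvd (hq : CAlgX.IsQuasiRegular f) (P : MvPolynomial Jx A)
    (h : algebraMap A (BlowUp.affineAlgebra A I (f i)) (f i) ∣ aeval (coord f i) P) (d : Jx →₀ ℕ) :
    P.coeff d ∈ I := by
  classical
  obtain ⟨y, hy⟩ := h
  obtain ⟨Q, rfl⟩ := aeval_coord_surjective f i y
  let N := (P.support ∪ Q.support).sup fun d => ∑ j, d j
  have hP : ∀ d ∈ P.support, ∑ j, d j ≤ N := fun d hd =>
    Finset.le_sup (f := fun d : Jx →₀ ℕ => ∑ j, d j) (Finset.mem_union_left _ hd)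
  have hQ : ∀ d ∈ Q.support, ∑ j, d j ≤ N := fun d hd =>
    Finset.le_sup (f := fun d : Jx →₀ ℕ => ∑ j, d j) (Finset.mem_union_right _ hd)
  have h1 : algebraMap A (Localization.Away (f i)) (eval f (homog i N P)) =
      algebraMap A (Localization.Away (f i)) (f i * eval f (homog i N Q)) := by
    rw [map_mul, algebraMap_eval_homog f i P hP, algebraMap_eval_homog f i Q hQ, hy, Subalgebra.coe_mul,
      Subalgebra.coe_algebraMap]
    ring
  obtain ⟨⟨_, k, rfl⟩, hk⟩ := (IsLocalization.eq_iff_exists (Submonoid.powers (f i)) _).1 h1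
  simp only at hk
  have h2 : eval f (monomial (Finsupp.single i k) 1 * homog i N P) ∈ I ^ (k + N + 1) := by
    have hI : ∀ (n : ℕ) (R : MvPolynomial (Fin r) A), R.IsHomogeneous n → eval f R ∈ I ^ n := by
      intro n R hR
      rw [R.as_sum, map_sum]
      refine Ideal.sum_mem _ fun e he => ?_
      rw [eval_monomial]
      refine Ideal.mul_mem_left _ _ ?_
      have hdeg : e.degree = n := by
        have := hR (mem_support_iff.1 he)
        rwa [Finsupp.degree_eq_weight_one]
      rw [← hdeg, Finsupp.prod_fintype _ _ (fun _ => pow_zero _), Finsupp.degree_eq_sum,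
        ← Finset.prod_pow_eq_pow_sum]
      exact Ideal.prod_mem_prod fun j _ => Ideal.pow_mem_pow (Ideal.subset_span (Set.mem_range_self j)) _
    rw [map_mul, eval_monomial, one_mul, Finsupp.prod_single_index (h := fun n e => f n ^ e) (pow_zero _), hk, ← mul_assoc, ← pow_succ,
      show k + N + 1 = (k + 1) + N by omega, pow_add]
    exact Ideal.mul_mem_mul (Ideal.pow_mem_pow (Ideal.subset_span (Set.mem_range_self i)) _) (hI N _ (isHomogeneous_homog i Q hQ))
  have h3 := hq (k + N) _ ((isHomogeneous_monomial _ (Finsupp.degree_single ..)).mul (isHomogeneous_homog i P hP)) h2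
    (Finsupp.single i k + homExp i N d)
  rwa [coeff_monomial_mul, one_mul, coeff_homog] at h3

/-- On the exceptional divisor the chart is smooth over the centre. -/
theorem smooth_of_square (hq : CAlgX.IsQuasiRegular f) {A₀ D : Type u} [CommRing A₀] [CommRing D]
    (p : A →+* A₀) (hp : Function.Surjective p) (hpk : RingHom.ker p = I) (ψ : A₀ →+* D)
    (q : BlowUp.affineAlgebra A I (f i) →+* D) (hqs : Function.Surjective q)
    (hqk : RingHom.ker q = (I).map (algebraMap A (BlowUp.affineAlgebra A I (f i))))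
    (hcomm : ψ.comp p = q.comp (algebraMap A (BlowUp.affineAlgebra A I (f i)))) : ψ.Smooth := by
  let B := BlowUp.affineAlgebra A I (f i)
  have hdiv : (I).map (algebraMap A B) ≤ Ideal.span {algebraMap A B (f i)} := by
    refine Ideal.map_le_iff_le_comap.2 fun x hx => ?_
    obtain ⟨c, hc⟩ := FBlow13.affineAlgebra_div (a := f i) hx
    exact Ideal.mem_span_singleton'.2 ⟨c, hc.symm⟩
  let γ : MvPolynomial Jx A →+* D := q.comp (aeval (R := A) (coord f i)).toRingHom
  have hγ : Function.Surjective γ := hqs.comp (aeval_coord_surjective f i)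
  let π : MvPolynomial Jx A →+* MvPolynomial Jx A₀ := MvPolynomial.map p
  have hπ : Function.Surjective π := MvPolynomial.map_surjective p hp
  have hker : RingHom.ker γ = RingHom.ker π := by
    ext P
    rw [RingHom.mem_ker, RingHom.mem_ker, RingHom.comp_apply, ← RingHom.mem_ker, hqk]
    constructor
    · intro h
      refine MvPolynomial.ext _ _ fun d => ?_
      rw [coeff_map, coeff_zero, ← RingHom.mem_ker, hpk]
      exact coeff_mem_of_dvd f i hq P (Ideal.mem_span_singleton.1 (hdiv h)) d
    · intro h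
      rw [P.as_sum, map_sum]
      refine Ideal.sum_mem _ fun d _ => ?_
      show aeval (coord f i) (monomial d (P.coeff d)) ∈ _
      rw [aeval_monomial]
      refine Ideal.mul_mem_right _ _ (Ideal.mem_map_of_mem _ ?_)
      rw [← hpk, RingHom.mem_ker, ← coeff_map]
      exact (congrArg (coeff d) h).trans (coeff_zero d)
  let e : MvPolynomial Jx A₀ ≃+* D := (RingHom.quotientKerEquivOfSurjective hπ).symm.trans
    ((Ideal.quotEquivOfEq hker.symm).trans (RingHom.quotientKerEquivOfSurjective hγ))
  have he : ∀ P, e (π P) = γ P := fun P => by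
    have : (RingHom.quotientKerEquivOfSurjective hπ).symm (π P) = Ideal.Quotient.mk _ P := by
      rw [RingEquiv.symm_apply_eq]
      rfl
    simp only [e, RingEquiv.trans_apply, this]
    rfl
  have hψ : ψ = e.toRingHom.comp (algebraMap A₀ (MvPolynomial Jx A₀)) := by
    refine (RingHom.cancel_right hp).1 (hcomm.trans (RingHom.ext fun a => ?_))
    show q (algebraMap A B a) = e (C (p a))
    rw [← map_C p, show e (MvPolynomial.map p (C a)) = γ (C a) from he _]
    simp [γ]
    rfl
  rw [hψ]
  exact RingHom.Smooth.comp (RingHom.smooth_algebraMap.2 ⟨inferInstance, inferInstance⟩) (RingHom.Smooth.of_bijective e.bijective)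

end Groth.Agent.CAlg9.BlowReg
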