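import Groth.Agent.FBlow13.AdmModel
import Groth.Agent.FBlow13.Chart
import Groth.Agent.Div89.BlowUp
import Groth.Agent.Div89.BlowSpec
import Groth.Agent.MP99.Valuation

/-!
Blow-ups of locally finitely generated ideals: finite type, and lifting of specializations.
-/

set_option autoImplicit false
set_option backward.isDefEq.respectTransparency.types false
universe u

open CategoryTheory Limits AlgebraicGeometry TopologicalSpace IsLocalRing

namespace Groth.Agent.CAlg9.BlowReg

variable {X X' : Scheme.{u}}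

/-- A blow-up in a locally finitely generated ideal is locally of finite type. -/
theorem locallyOfFiniteType_of_isBlowUp (I : X.IdealSheafData) (hI : BlowUp.IsFiniteTypeIdeal I)
    (b : X' ⟶ X) (hb : BlowUp.IsBlowUp b I) : LocallyOfFiniteType b := by
  rw [IsZariskiLocalAtTarget.iff_of_openCover (P := @LocallyOfFiniteType) X.affineCover]
  intro i
  suffices ∀ (A : CommRingCat.{u}) (g : Spec A ⟶ X) [IsOpenImmersion g], LocallyOfFiniteType (pullback.snd b g) from
    @this _ (X.affineCover.f i) (X.affineCover.map_prop i)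
  intro A g _
  have hb' := Div89.isBlowUp_flat_baseChange g hb
  let J := I.comap g
  let a : Ideal A := (J.ideal ⟨⊤, isAffineOpen_top _⟩).map (Scheme.ΓSpecIso A).hom.hom
  have hinv : (J.ideal ⟨⊤, isAffineOpen_top _⟩) = a.map (Scheme.ΓSpecIso A).inv.hom := by
    rw [Ideal.map_map, ← CommRingCat.hom_comp, Iso.hom_inv_id, CommRingCat.hom_id, Ideal.map_id]
  have hJ : J = FSch.idealSpec A a := by
    rw [Div89.idealSpec_eq_ofIdealTop]
    apply Scheme.IdealSheafData.ext_of_isAffine
    rw [hinv]
    simp only [Scheme.IdealSheafData.ofIdealTop_ideal]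
    erw [(Spec A).presheaf.map_id, CommRingCat.hom_id, Ideal.map_id]
    rfl
  have ha : a.FG := by
    refine Ideal.FG.map ?_ _
    have h2 := Scheme.IdealSheafData.ideal_comap_of_isOpenImmersion I g ⟨⊤, isAffineOpen_top (Spec A)⟩
    rw [h2]
    let W : X.affineOpens := ⟨g ''ᵁ ⊤, (isAffineOpen_top (Spec A)).image_of_isOpenImmersion g⟩
    have h3 : (g.appIso ⊤).inv.hom = (g.appIso ⊤).symm.commRingCatIsoToRingEquiv.toRingHom := rfl
    rw [h3]
    erw [← Ideal.map_symm]
    exact (hI W).map _
  rw [show pullback.snd b g = (pullbackSymmetry b g).hom ≫ pullback.fst g b by simp]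
  have : LocallyOfFiniteType (pullback.fst g b) := by
    refine FBlow13.locallyOfFiniteType_of_locPrincipalFT (A := A) (𝔞 := a) (pullback.fst g b) ?_
    exact FBlow13.locPrincipalFT_of_isBlowUp (pullback.fst g b) (hJ ▸ hb') ha
  infer_instance

theorem isLocallyNoetherian_of_isBlowUp [IsLocallyNoetherian X] (I : X.IdealSheafData) (b : X' ⟶ X)
    (hb : BlowUp.IsBlowUp b I) : IsLocallyNoetherian X' :=
  have := locallyOfFiniteType_of_isBlowUp I (fun U =>
    have := IsLocallyNoetherian.component_noetherian U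
    IsNoetherian.noetherian _) b hb
  LocallyOfFiniteType.isLocallyNoetherian b

/-- A specialization into the centre from outside of it lifts to the blow-up. -/
theorem exists_specializes_lift (I : X.IdealSheafData) (hI : BlowUp.IsFiniteTypeIdeal I)
    (b : X' ⟶ X) (hb : BlowUp.IsBlowUp b I) {x₁ x : X} (h : x₁ ⤳ x) (h₁ : x₁ ∉ I.support) :
    ∃ z₁ z : X', z₁ ⤳ z ∧ b z₁ = x₁ ∧ b z = x := by
  obtain ⟨A, _, _, _, p, hp₁, hp⟩ := MP99.exists_valuationRing_specializes h
  have hcart : BlowUp.IsEffCartierIdeal (I.comap p) := by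
    refine MP99.isEffCartier_of_integral (fun t => ?_) (x := ⟨⊥, Ideal.isPrime_bot⟩) ?_
    · obtain ⟨U, hxU⟩ := Div89.exists_affine_mem x
      have hcl : p ⁻¹ᵁ U.1 = ⊤ := top_unique fun y _ =>
        ((specializes_closedPoint (R := A) y).map p.continuous).mem_open U.1.2 (by rw [hp]; exact hxU)
      refine ⟨⟨⊤, isAffineOpen_top _⟩, trivial, ?_⟩
      rw [MP99.ideal_comap I p U ⟨⊤, isAffineOpen_top _⟩ hcl.ge]
      let e := (Scheme.ΓSpecIso (CommRingCat.of A)).commRingCatIsoToRingEquiv
      have : ((((I.ideal U).map (p.appLE U.1 ⊤ hcl.ge).hom).map e.toRingHom)).IsPrincipal :=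
        IsBezout.isPrincipal_of_FG _ (((hI U).map _).map _)
      obtain ⟨c, hc⟩ := this
      refine ⟨e.symm c, ?_⟩
      have := congrArg (Ideal.map e.symm.toRingHom) hc
      rw [Ideal.map_map, show e.symm.toRingHom.comp e.toRingHom = RingHom.id _ from RingHom.ext e.symm_apply_apply,
        Ideal.map_id, Ideal.submodule_span_eq, Ideal.map_span, Set.image_singleton] at this
      exact this
    · show _ ∈ (I.comap p).support.compl
      have h2 : (⟨⊥, Ideal.isPrime_bot⟩ : Spec (CommRingCat.of A)) ∉ (I.comap p).support :=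
        Div89.notMem_support_comap p I _ (by rw [hp₁]; exact h₁)
      exact h2
  obtain ⟨k, hk, -⟩ := hb.2 _ p hcart
  refine ⟨k ⟨⊥, Ideal.isPrime_bot⟩, k (closedPoint A), (specializes_closedPoint (R := A) _).map k.continuous, ?_, ?_⟩
  · rw [← Scheme.Hom.comp_apply, hk, hp₁]
  · rw [← Scheme.Hom.comp_apply, hk, hp]

end Groth.Agent.CAlg9.BlowReg
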