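import Groth.Prelude.Def_Mor2
import Groth.Agent.CAlg9.BlowReg.ChartAlg
import Groth.Agent.CAlg9.BlowReg.Basic
import Groth.Agent.EGA4Alg4.QuasiReg
import Groth.Agent.RR50.Rees

/-!
The exceptional divisor of the blow-up in a regular centre is smooth over the centre.
-/

set_option autoImplicit false
set_option backward.isDefEq.respectTransparency.types false
universe u

open CategoryTheory Limits AlgebraicGeometry TopologicalSpace IsLocalRing

namespace Groth.Agent.CAlg9.BlowReg

open Groth.Agent.FBlow13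

/-- The chart opens of generators cover. -/
theorem exists_mem_chartOpen_gen {A : Type u} [CommRing A] {r : ℕ} (f : Fin r → A)
    {P : Scheme.{u}} (π : P ⟶ Spec (CommRingCat.of A))
    (hπ : BlowUp.IsEffCartierIdeal ((FSch.idealSpec A (Ideal.span (Set.range f))).comap π)) (p : P) :
    ∃ i, p ∈ chartOpen π (Ideal.span (Set.range f)) (f i) := by
  obtain ⟨U, hpU, t, htz, ht⟩ := hπ p
  let φ := baseHom π U.1
  have e : ∀ K : Ideal A, ((FSch.idealSpec A K).comap π).ideal U = K.map φ.hom := fun K => by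
    rw [MP99.ideal_comap _ π ⟨⊤, isAffineOpen_top _⟩ U le_top, idealSpec_ideal_top, Ideal.map_map,
      ← CommRingCat.hom_comp]
  rw [e, Ideal.map_span, ← Set.range_comp] at ht
  obtain ⟨s, hs⟩ := (Submodule.mem_span_range_iff_exists_fun Γ(P, U.1)).1 (ht.ge (Ideal.mem_span_singleton_self t))
  have hd : ∀ i, ∃ d, d * t = φ (f i) := fun i =>
    Ideal.mem_span_singleton'.1 (ht.le (Ideal.subset_span ⟨i, rfl⟩))
  choose d hd using hd
  have h1 : ∑ i, s i * d i = 1 := by
    refine (mul_cancel_right_mem_nonZeroDivisors htz).1 ?_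
    rw [one_mul, Finset.sum_mul]
    conv_rhs => rw [← hs]
    exact Finset.sum_congr rfl fun i _ => by rw [mul_assoc, hd]; rfl
  obtain ⟨i, -, hx⟩ : ∃ i ∈ (Finset.univ : Finset (Fin r)), IsUnit ((P.presheaf.germ U.1 p hpU).hom (s i * d i)) := by
    by_contra hc
    push Not at hc
    have h2 : (∑ i, (P.presheaf.germ U.1 p hpU).hom (s i * d i)) ∈ nonunits (P.presheaf.stalk p) :=
      Finset.sum_induction _ (· ∈ nonunits (P.presheaf.stalk p))
        (fun _ _ => IsLocalRing.nonunits_add) (zero_mem_nonunits.2 zero_ne_one) hc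
    rw [← map_sum, h1, map_one] at h2
    exact h2 isUnit_one
  rw [map_mul] at hx
  have hp : p ∈ P.basicOpen (d i) := (P.mem_basicOpen _ _ hpU).2 (isUnit_of_mul_isUnit_right hx)
  refine ⟨i, MP99.le_maxLE (W := P.basicOpen (d i))
    (MP99.comap_le_of_ideal_le fun y hy => ⟨P.affineBasicOpen (d i), hy, le_rfl, ?_⟩) hp⟩
  have hle : P.affineBasicOpen (d i) ≤ U := P.basicOpen_le _
  have ex : ((FSch.idealSpec A (Ideal.span {f i})).comap π).ideal U = Ideal.span {φ (f i)} := by
    rw [e, Ideal.map_span, Set.image_singleton]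
  have eI : ((FSch.idealSpec A (Ideal.span (Set.range f))).comap π).ideal U = Ideal.span {t} := by
    rw [e, Ideal.map_span, ← Set.range_comp]
    exact ht
  rw [MP99.ideal_restrict _ hle eI, MP99.ideal_restrict _ hle ex, ← hd, map_mul]
  exact le_of_eq (Ideal.span_singleton_mul_left_unit
    (RingedSpace.isUnit_res_basicOpen _ (d i)) _).symm

theorem smooth_exceptional {X X' Y : Scheme.{u}} (i : Y ⟶ X) (hi : Mor2.IsRegularClosedImmersion i)
    (b : X' ⟶ X) (hb : BlowUp.IsBlowUp b i.ker) (g : (BlowUp.exceptional b i.ker).subscheme ⟶ Y)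
    (hg : g ≫ i = (BlowUp.exceptional b i.ker).subschemeι ≫ b) : Smooth g := by
  have : IsClosedImmersion i := hi.1
  rw [HasRingHomProperty.iff_exists_appLE (P := @Smooth)
    (RingHom.Smooth.stableUnderComposition.stableUnderCompositionWithLocalizationAway RingHom.Smooth.holdsForLocalizationAway).1]
  intro w
  let E := BlowUp.exceptional b i.ker
  obtain ⟨U, hU, hxU, rs, hrs, hker⟩ := hi.2 (g w)
  let A := Γ(X, U)
  let f : Fin rs.length → A := rs.get
  have hI : i.ker.ideal ⟨U, hU⟩ = Ideal.span (Set.range f) := by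
    rw [hker, Ideal.ofList]
    congr 1
    exact (Set.range_list_get rs).symm
  have hq : CAlgX.IsQuasiRegular f := EGA4Alg4.isQuasiRegular_of_isWeaklyRegular _ f
    (by rw [List.ofFn_get]; exact hrs.1)
  -- restrict the blow-up to `Spec A`
  have hb' := Div89.isBlowUp_flat_baseChange hU.fromSpec hb
  have hJ : i.ker.comap hU.fromSpec = FSch.idealSpec A (Ideal.span (Set.range f)) := by
    rw [Div89.idealSpec_eq_ofIdealTop]
    apply Scheme.IdealSheafData.ext_of_isAffine
    rw [MP99.ideal_comap _ hU.fromSpec ⟨U, hU⟩ ⟨⊤, isAffineOpen_top _⟩ (by simp), hI,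
      Scheme.IdealSheafData.ofIdealTop_ideal]
    erw [(Spec _).presheaf.map_id, CommRingCat.hom_id, Ideal.map_id]
    congr 2
    rw [Scheme.Hom.appLE, IsAffineOpen.fromSpec_app_self]
    simp only [Category.assoc, ← Functor.map_comp]
    erw [(Spec _).presheaf.map_id, Category.comp_id]
    rfl
  rw [hJ] at hb'
  let z := E.subschemeι w
  have hbz : b z = i (g w) := by rw [← Scheme.Hom.comp_apply, ← hg, Scheme.Hom.comp_apply]
  obtain ⟨p, hp⟩ : z ∈ Set.range (pullback.snd hU.fromSpec b) := by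
    rw [IsOpenImmersion.range_pullbackSnd]
    show b z ∈ Set.range hU.fromSpec
    rw [hU.range_fromSpec, hbz]
    exact hxU
  obtain ⟨i₀, hi₀⟩ := exists_mem_chartOpen_gen f (pullback.fst hU.fromSpec b) hb'.1 p
  obtain ⟨e, he⟩ := exists_iso_chartOpen (pullback.fst hU.fromSpec b) hb' (Ideal.subset_span (Set.mem_range_self i₀))
  let Q := chartOpen (pullback.fst hU.fromSpec b) (Ideal.span (Set.range f)) (f i₀)
  let B := BlowUp.affineAlgebra A (Ideal.span (Set.range f)) (f i₀)
  let j : Spec (CommRingCat.of B) ⟶ X' := e.hom ≫ Q.ι ≫ pullback.snd hU.fromSpec b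
  let α : A ⟶ CommRingCat.of B := CommRingCat.ofHom (algebraMap A B)
  have hj : j ≫ b = Spec.map α ≫ hU.fromSpec := by
    simp only [j, Category.assoc, ← pullback.condition]
    rw [← Category.assoc Q.ι, ← Category.assoc e.hom]
    congr 1
  let V := j.opensRange
  have hV : IsAffineOpen V := isAffineOpen_opensRange j
  have hzV : z ∈ V := ⟨e.inv ⟨p, hi₀⟩, by
    simp only [j, ← Scheme.Hom.comp_apply, Iso.inv_hom_id_assoc]
    exact hp⟩
  have hVU : V ≤ b ⁻¹ᵁ U := by
    rintro _ ⟨y, rfl⟩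
    show (j ≫ b) y ∈ U
    rw [hj]
    have h1 : hU.fromSpec (Spec.map α y) ∈ Set.range hU.fromSpec := ⟨_, rfl⟩
    rw [hU.range_fromSpec] at h1
    exact h1
  let φ := b.appLE U V hVU
  let θ : Spec Γ(X', V) ≅ Spec (CommRingCat.of B) := IsOpenImmersion.isoOfRangeEq hV.fromSpec j (by
    rw [hV.range_fromSpec]; rfl)
  have hθ : θ.hom ≫ j = hV.fromSpec := IsOpenImmersion.isoOfRangeEq_hom_fac _ _ _
  let η : CommRingCat.of B ⟶ Γ(X', V) := Spec.preimage θ.hom
  have hη : α ≫ η = φ := by
    apply Spec.map_injective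
    rw [Spec.map_comp, Spec.map_preimage, ← cancel_mono hU.fromSpec, Category.assoc, ← hj, ← Category.assoc, hθ,
      IsAffineOpen.SpecMap_appLE_fromSpec]
  have hηinv : IsIso η := by
    have h1 : η ≫ Spec.preimage θ.inv = 𝟙 _ := by
      apply Spec.map_injective
      rw [Spec.map_comp, Spec.map_preimage, Spec.map_preimage, Iso.inv_hom_id, Spec.map_id]
    have h2 : Spec.preimage θ.inv ≫ η = 𝟙 _ := by
      apply Spec.map_injective
      rw [Spec.map_comp, Spec.map_preimage, Spec.map_preimage, Iso.hom_inv_id, Spec.map_id]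
    exact ⟨_, h1, h2⟩
  let W := E.subschemeι ⁻¹ᵁ V
  have hW : IsAffineOpen W := hV.preimage E.subschemeι
  have eW : W ≤ g ⁻¹ᵁ (i ⁻¹ᵁ U) := fun y hy => by
    show (g ≫ i) y ∈ U
    rw [hg]
    exact hVU hy
  refine ⟨⟨i ⁻¹ᵁ U, hU.preimage i⟩, ⟨W, hW⟩, hzV, eW, ?_⟩
  have hηb : Function.Bijective η.hom := ConcreteCategory.bijective_of_isIso η
  refine smooth_of_square f i₀ hq (i.app U).hom (i.app_surjective U hU) ?_ _
    ((E.subschemeι.app V).hom.comp η.hom) ((E.subschemeι.app_surjective V hV).comp hηb.2) ?_ ?_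
  · rw [← hI, Scheme.Hom.ker_apply]
  · have h1 : RingHom.ker (E.subschemeι.app V).hom = (Ideal.span (Set.range f)).map φ.hom := by
      rw [← Scheme.Hom.ker_apply E.subschemeι ⟨V, hV⟩, Scheme.IdealSheafData.ker_subschemeι,
        MP99.ideal_comap i.ker b ⟨U, hU⟩ ⟨V, hV⟩ hVU, hI]
    rw [← RingHom.comap_ker, h1, ← hη, CommRingCat.hom_comp, ← Ideal.map_map]
    exact Ideal.comap_map_of_bijective η.hom hηb
  · have h1 : i.app U ≫ g.appLE (i ⁻¹ᵁ U) W eW = (g ≫ i).appLE U W eW := by
      rw [← Scheme.Hom.appLE_comp_appLE g i U (i ⁻¹ᵁ U) W le_rfl eW, Scheme.Hom.appLE_eq_app]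
    have h2 : (g ≫ i).appLE U W eW = α ≫ η ≫ E.subschemeι.app V := by
      rw [← Category.assoc, hη, ← Scheme.Hom.appLE_eq_app]
      simp only [hg]
      exact (Scheme.Hom.appLE_comp_appLE E.subschemeι b U V W hVU le_rfl).symm
    exact congrArg CommRingCat.Hom.hom (h1.trans h2)

end Groth.Agent.CAlg9.BlowReg
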